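import Cfsg.Agent.H890.A7.Two

/-!
# `6.A₇` in dimension twelve: three `2 × 2` matrices (helper825)

`V = F³ ⊗ U ⊗ M`, `dim U = dim M = 2`.  The data on `M` are `X, Z, N` with `2 N² = 1`, `X² = Z²`, `3 (XZ + ZX) = 1`.
-/

set_option autoImplicit false
set_option linter.unusedSectionVars false

namespace Cfsg.Agent.H825.A7x

open Matrix Cfsg.Agent.H890.A7

section gen

variable {F : Type*} [Field F] {R : Type*} [Ring R] [Algebra F R]

/-- The data: `p_m = [Z, X] - 2 ω^(-m) X N X - 2 ω^m Z N Z`, `q_m = X² + ω^m Z N X - ω^(-m) X N Z`. -/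
structure Eqs (ω L : F) (X Z N p₀ p₁ p₂ q₀ q₁ q₂ : R) : Prop where
  hω : ω ^ 2 + ω + 1 = 0
  h2 : (2 : F) ≠ 0
  h3 : (3 : F) ≠ 0
  L2 : L ^ 2 = 1
  NN : (2 : F) • (N * N) = 1
  XX : X * X = Z * Z
  XZ : (3 : F) • (X * Z + Z * X) = 1
  hp0 : p₀ = (Z * X - X * Z) - (2 : F) • (X * N * X) - (2 : F) • (Z * N * Z)
  hp1 : p₁ = (Z * X - X * Z) - (2 * ω ^ 2) • (X * N * X) - (2 * ω) • (Z * N * Z)
  hp2 : p₂ = (Z * X - X * Z) - (2 * ω) • (X * N * X) - (2 * ω ^ 2) • (Z * N * Z)
  hq0 : q₀ = X * X + Z * N * X - X * N * Z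
  hq1 : q₁ = X * X + ω • (Z * N * X) - ω ^ 2 • (X * N * Z)
  hq2 : q₂ = X * X + ω ^ 2 • (Z * N * X) - ω • (X * N * Z)
  s0 : (3 : F) • (p₀ * p₀) + (12 : F) • (q₀ * q₀) = 1
  s1 : (3 : F) • (p₁ * p₁) + (12 : F) • (q₁ * q₂) = 1
  s2 : (3 : F) • (p₂ * p₂) + (12 : F) • (q₂ * q₁) = 1
  e00 : (3 : F) • (p₀ * p₀) - (12 : F) • (q₀ * q₀) = -((2 * L) • q₀)
  e12 : (6 : F) • (q₁ * N * p₂) = -(L • q₁)
  e21 : (6 : F) • (p₂ * N * q₂) = -(L • q₂)
  e01 : (6 : F) • (q₀ * N * p₁) = L • (p₀ * N + N * p₁)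
  e10 : (6 : F) • (p₁ * N * q₀) = L • (p₁ * N + N * p₀)
  e22 : (3 : F) • (p₂ * p₂) - (12 : F) • (q₂ * q₁) = (2 * L) • (p₂ * N + N * p₂)
  e02 : (3 : F) • (p₀ * N * q₁) = (2 * L) • (N * q₁ * N)
  e20 : (3 : F) • (q₂ * N * p₀) = (2 * L) • (N * q₂ * N)
  e11 : (3 : F) • (p₁ * p₁) - (12 : F) • (q₁ * q₂) = (8 * L) • (N * q₀ * N)

end gen

section two

variable {F : Type*} [Field F]

local notation "R2" => Matrix (Fin 2) (Fin 2) F

/-- irreducibility -/
structure Irr (X Z N : R2) : Prop where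
  comm : ∀ Y : R2, Y * X = X * Y → Y * Z = Z * Y → Y * N = N * Y → IsSc Y
  irr : ∀ v : Fin 2 → F, v ≠ 0 → (∃ c : F, X *ᵥ v = c • v) → (∃ c : F, Z *ᵥ v = c • v) →
    (∃ c : F, N *ᵥ v = c • v) → False

theorem smul_cancel {c : F} (hc : c ≠ 0) {x y : R2} (h : c • x = c • y) : x = y :=
  smul_right_injective _ hc h

theorem tr_mul_self_zero {x : R2} (hx : ¬ IsSc x) {c : F} (h : x * x = c • 1) : x.trace = 0 := by
  have h1 := ch2 x
  rw [h] at h1
  have h2 : x.trace • x + (-(x.det) - c) • (1 : R2) = 0 := by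
    have : x.trace • x + (-(x.det) - c) • (1 : R2) = (x.trace • x - x.det • 1) - c • 1 := by module
    rw [this, ← h1, sub_self]
  exact (coeff_zero hx h2).1

/-- traceless matrices -/
theorem anti {x y : R2} (hx : x.trace = 0) (hy : y.trace = 0) : x * y + y * x = (x * y).trace • 1 := by
  rw [ch2', hx, hy]
  simp

theorem one_ne_zero' : (1 : R2) ≠ 0 := one_ne_zero

theorem smul_one_eq {a b : F} (h : a • (1 : R2) = b • 1) : a = b := by
  have := congrFun (congrFun h 0) 0
  simpa using this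

theorem smul_one_eq_zero {a : F} (h : a • (1 : R2) = 0) : a = 0 := by
  have := congrFun (congrFun h 0) 0
  simpa using this

theorem theta_ne' {ω : F} (hω : ω ^ 2 + ω + 1 = 0) (h3 : (3 : F) ≠ 0) : ω - ω ^ 2 ≠ 0 := by
  intro h
  apply h3
  linear_combination (ω ^ 2 - 3 * ω + 3) * hω - (ω - ω ^ 2) * h

/-- the kernel of a non-zero singular matrix is a line -/
theorem ker_line {G : R2} (hG : G ≠ 0) {v w : Fin 2 → F} (hv : v ≠ 0) (h1 : G *ᵥ v = 0) (h2 : G *ᵥ w = 0) :
    ∃ a : F, w = a • v := by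
  by_cases hd : v 0 * w 1 - v 1 * w 0 = 0
  · by_cases h0 : v 0 = 0
    · have h3 : v 1 ≠ 0 := by
        intro h3
        apply hv
        funext i
        fin_cases i
        · exact h0
        · exact h3
      refine ⟨w 1 / v 1, ?_⟩
      rw [h0, zero_mul, zero_sub, neg_eq_zero] at hd
      have h4 := (mul_eq_zero.1 hd).resolve_left h3
      funext i
      fin_cases i
      · simp [h0, h4]
      · simp [h3]
    · refine ⟨w 0 / v 0, ?_⟩
      funext i
      fin_cases i
      · simp [h0]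
      · simp only [Fin.mk_one, Pi.smul_apply, smul_eq_mul]
        field_simp
        linear_combination hd
  · exfalso
    apply hG
    have e0 : ∀ i, G i 0 * v 0 + G i 1 * v 1 = 0 := fun i => by
      have := congrFun h1 i
      rwa [Matrix.mulVec, dotProduct, Fin.sum_univ_two] at this
    have e1 : ∀ i, G i 0 * w 0 + G i 1 * w 1 = 0 := fun i => by
      have := congrFun h2 i
      rwa [Matrix.mulVec, dotProduct, Fin.sum_univ_two] at this
    ext i j
    have f0 : G i 0 * (v 0 * w 1 - v 1 * w 0) = 0 := by linear_combination w 1 * e0 i - v 1 * e1 i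
    have f1 : G i 1 * (v 0 * w 1 - v 1 * w 0) = 0 := by linear_combination v 0 * e1 i - w 0 * e0 i
    fin_cases j
    · exact (mul_eq_zero.1 f0).resolve_right hd
    · exact (mul_eq_zero.1 f1).resolve_right hd

namespace Eqs

variable {ω L : F} {X Z N p₀ p₁ p₂ q₀ q₁ q₂ : Matrix (Fin 2) (Fin 2) F} (h : Eqs ω L X Z N p₀ p₁ p₂ q₀ q₁ q₂)
include h

theorem L0 : L ≠ 0 := by
  intro h0
  have := h.L2
  rw [h0] at this
  norm_num at this

theorem h6 : (6 : F) ≠ 0 := by
  rw [show (6 : F) = 2 * 3 by norm_num]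
  exact mul_ne_zero h.h2 h.h3

theorem X_ne : X ≠ 0 := by
  intro h0
  have := h.XZ
  rw [h0, zero_mul, mul_zero, add_zero, smul_zero] at this
  exact zero_ne_one this

/-- `X² = c` -/
theorem GG {c : F} (hc : X * X = c • 1) :
    (9 : F) • ((Z * X - X * Z) * (Z * X - X * Z)) = (1 - 36 * c ^ 2) • 1 := by
  have hc' : Z * Z = c • 1 := by rw [← h.XX, hc]
  have e1 : (Z * X) * (X * Z) = (c ^ 2) • 1 := by
    calc (Z * X) * (X * Z) = Z * (X * X) * Z := by noncomm_ring
      _ = c • (Z * Z) := by rw [hc, mul_smul_comm, smul_mul_assoc, mul_one]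
      _ = _ := by rw [hc', smul_smul, sq]
  have e2 : (X * Z) * (Z * X) = (c ^ 2) • 1 := by
    calc (X * Z) * (Z * X) = X * (Z * Z) * X := by noncomm_ring
      _ = c • (X * X) := by rw [hc', mul_smul_comm, smul_mul_assoc, mul_one]
      _ = _ := by rw [hc, smul_smul, sq]
  have e3 : (9 : F) • ((X * Z + Z * X) * (X * Z + Z * X)) = 1 := by
    have : (9 : F) • ((X * Z + Z * X) * (X * Z + Z * X)) =
        ((3 : F) • (X * Z + Z * X)) * ((3 : F) • (X * Z + Z * X)) := by
      rw [smul_mul_smul_comm]; norm_num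
    rw [this, h.XZ, one_mul]
  have e4 : (Z * X - X * Z) * (Z * X - X * Z) = (X * Z + Z * X) * (X * Z + Z * X) -
      ((Z * X) * (X * Z) + (Z * X) * (X * Z)) - ((X * Z) * (Z * X) + (X * Z) * (Z * X)) := by noncomm_ring
  rw [e4, e1, e2, smul_sub, smul_sub, e3]
  module

/-- `G` anticommutes with `X` -/
theorem GX {c : F} (hc : X * X = c • 1) : (Z * X - X * Z) * X = -(X * (Z * X - X * Z)) := by
  have : (Z * X - X * Z) * X = -(X * (Z * X - X * Z)) + (Z * (X * X) - (X * X) * Z) := by noncomm_ring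
  rw [this, hc, mul_smul_comm, smul_mul_assoc, mul_one, one_mul, sub_self, add_zero]

theorem GZ {c : F} (hc : X * X = c • 1) : (Z * X - X * Z) * Z = -(Z * (Z * X - X * Z)) := by
  have : (Z * X - X * Z) * Z = -(Z * (Z * X - X * Z)) + ((Z * Z) * X - X * (Z * Z)) := by noncomm_ring
  rw [this, ← h.XX, hc, mul_smul_comm, smul_mul_assoc, mul_one, one_mul, sub_self, add_zero]

/-- not everything is a scalar -/
theorem not_comm (hI : Irr X Z N) (hX : IsSc X) (hN : IsSc N) : False := by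
  obtain ⟨x, hx⟩ := hX
  have hx0 : x ≠ 0 := by
    rintro rfl
    exact h.X_ne (by rw [hx, zero_smul])
  have hZ : IsSc Z := by
    have h1 := h.XZ
    rw [hx, smul_mul_assoc, mul_smul_comm, one_mul, mul_one, ← two_smul F, smul_smul, smul_smul] at h1
    refine ⟨(3 * 2 * x)⁻¹, ?_⟩
    have h0 : 3 * 2 * x ≠ 0 := mul_ne_zero (mul_ne_zero h.h3 h.h2) hx0
    apply smul_cancel h0
    rw [h1, smul_smul, mul_inv_cancel₀ h0, one_smul]
  apply not_all_sc (F := F)
  intro Y
  exact hI.comm Y (IsSc.comm ⟨x, hx⟩ Y).symm ((hZ.comm Y).symm) ((hN.comm Y).symm)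

/-- `N` is not a scalar -/
theorem N_not_sc (hI : Irr X Z N) : ¬ IsSc N := by
  rintro hN
  obtain ⟨ν, hν⟩ := hN
  have hν2 : 2 * (ν * ν) = 1 := by
    have h1 := h.NN
    rw [hν, smul_mul_smul_comm, one_mul, smul_smul] at h1
    exact smul_one_eq (by rw [one_smul]; exact h1)
  have hν0 : ν ≠ 0 := by
    rintro rfl
    norm_num at hν2
  have hNc : ∀ Y : R2, Y * N = N * Y := fun Y => by rw [hν, mul_smul_comm, smul_mul_assoc, mul_one, one_mul]
  obtain ⟨c, hc⟩ := hI.comm (X * X) (mul_assoc _ _ _) (by rw [h.XX, mul_assoc]) (hNc _)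
  have hGsc : ¬ IsSc (Z * X - X * Z) := by
    rintro ⟨g, hg⟩
    have h1 := h.GX hc
    rw [hg, smul_mul_assoc, mul_smul_comm, one_mul, mul_one] at h1
    have h2 : (2 * g) • X = 0 := by
      have : (2 * g) • X = g • X + g • X := by module
      rw [this]
      nth_rewrite 1 [h1]
      exact neg_add_cancel _
    have h3 : g = 0 := (mul_eq_zero.1 ((smul_eq_zero.1 h2).resolve_right h.X_ne)).resolve_left h.h2
    rw [h3, zero_smul, sub_eq_zero] at hg
    exact h.not_comm hI (hI.comm X rfl hg.symm (hNc _)) ⟨ν, hν⟩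
  have hGG := h.GG hc
  obtain ⟨G, hG⟩ : ∃ G, G = Z * X - X * Z := ⟨_, rfl⟩
  rw [← hG] at hGsc hGG
  have hp0 : p₀ = G - (4 * ν * c) • 1 := by
    rw [h.hp0, ← hG, hν, mul_smul_comm, smul_mul_assoc, mul_smul_comm, smul_mul_assoc, mul_one, mul_one, ← h.XX, hc]
    module
  have hq0 : q₀ = c • 1 + ν • G := by
    rw [h.hq0, hν, mul_smul_comm, smul_mul_assoc, mul_smul_comm, smul_mul_assoc, mul_one, mul_one, hc, hG]
    module
  have hp1 : p₁ = G + (2 * ν * c) • 1 := by
    have e : -(2 * ω ^ 2) * (ν * c) - (2 * ω) * (ν * c) = 2 * ν * c := by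
      linear_combination (-(2 * ν * c)) * h.hω
    rw [h.hp1, ← hG, hν, mul_smul_comm, smul_mul_assoc, mul_smul_comm, smul_mul_assoc, mul_one, mul_one, ← h.XX, hc, ← e]
    module
  have e00 := h.e00
  have s0 := h.s0
  have e11 := h.e11
  have s1 := h.s1
  have hNq : N * q₀ * N = (ν * ν) • q₀ := by
    rw [hν, smul_mul_assoc, mul_smul_comm, mul_one, one_mul, smul_smul]
  -- twice `3 p₀² = 1 - 2 L q₀`
  have k0 : (6 : F) • (p₀ * p₀) = 1 - (2 * L) • q₀ := by
    have : (6 : F) • (p₀ * p₀) = ((3 : F) • (p₀ * p₀) + (12 : F) • (q₀ * q₀)) +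
      ((3 : F) • (p₀ * p₀) - (12 : F) • (q₀ * q₀)) := by module
    rw [this, s0, e00, ← sub_eq_add_neg]
  have k1 : (6 : F) • (p₁ * p₁) = 1 + (4 * L) • q₀ := by
    have : (6 : F) • (p₁ * p₁) = ((3 : F) • (p₁ * p₁) + (12 : F) • (q₁ * q₂)) +
      ((3 : F) • (p₁ * p₁) - (12 : F) • (q₁ * q₂)) := by module
    rw [this, s1, e11, hNq, smul_smul]
    congr 2
    linear_combination (4 * L) * hν2
  have m0 : p₀ * p₀ = G * G - (8 * ν * c) • G + (4 * ν * c) ^ 2 • 1 := by
    rw [hp0]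
    have : (G - (4 * ν * c) • 1) * (G - (4 * ν * c) • 1) = G * G - (4 * ν * c) • G - (4 * ν * c) • G +
      ((4 * ν * c) * (4 * ν * c)) • (1 : R2) := by
      simp only [sub_mul, mul_sub, smul_mul_assoc, mul_smul_comm, mul_one, one_mul]
      module
    rw [this]
    module
  have m1 : p₁ * p₁ = G * G + (4 * ν * c) • G + (2 * ν * c) ^ 2 • 1 := by
    rw [hp1]
    have : (G + (2 * ν * c) • 1) * (G + (2 * ν * c) • 1) = G * G + (2 * ν * c) • G + (2 * ν * c) • G +
      ((2 * ν * c) * (2 * ν * c)) • (1 : R2) := by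
      simp only [add_mul, mul_add, smul_mul_assoc, mul_smul_comm, mul_one, one_mul]
      module
    rw [this]
    module
  rw [m0, hq0] at k0
  rw [m1, hq0] at k1
  -- coefficients of `G`
  have r0 : (3 * (-48 * ν * c + 2 * L * ν)) • G + (2 * (1 - 36 * c ^ 2) + 18 * (4 * ν * c) ^ 2 - 3 + 6 * L * c) • (1 : R2) = 0 := by
    have : (3 * (-48 * ν * c + 2 * L * ν)) • G + (2 * (1 - 36 * c ^ 2) + 18 * (4 * ν * c) ^ 2 - 3 + 6 * L * c) • (1 : R2) =
      (3 : F) • ((6 : F) • (G * G - (8 * ν * c) • G + (4 * ν * c) ^ 2 • 1) - (1 - (2 * L) • (c • 1 + ν • G))) -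
        (2 : F) • ((9 : F) • (G * G) - (1 - 36 * c ^ 2) • 1) := by module
    rw [this, k0, hGG, sub_self, sub_self, smul_zero, smul_zero, sub_self]
  have r1 : (3 * (24 * ν * c - 4 * L * ν)) • G + (2 * (1 - 36 * c ^ 2) + 18 * (2 * ν * c) ^ 2 - 3 - 12 * L * c) • (1 : R2) = 0 := by
    have : (3 * (24 * ν * c - 4 * L * ν)) • G + (2 * (1 - 36 * c ^ 2) + 18 * (2 * ν * c) ^ 2 - 3 - 12 * L * c) • (1 : R2) =
      (3 : F) • ((6 : F) • (G * G + (4 * ν * c) • G + (2 * ν * c) ^ 2 • 1) - (1 + (4 * L) • (c • 1 + ν • G))) -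
        (2 : F) • ((9 : F) • (G * G) - (1 - 36 * c ^ 2) • 1) := by module
    rw [this, k1, hGG, sub_self, sub_self, smul_zero, smul_zero, sub_self]
  obtain ⟨a0, -⟩ := coeff_zero hGsc r0
  obtain ⟨a1, -⟩ := coeff_zero hGsc r1
  have b0 : 24 * c = L := by
    have h1 : (3 * (2 * ν)) * (L - 24 * c) = 0 := by linear_combination a0
    have h2 := (mul_eq_zero.1 h1).resolve_left (mul_ne_zero h.h3 (mul_ne_zero h.h2 hν0))
    linear_combination -h2
  have b1 : 6 * c = L := by
    have h1 : (3 * (2 * 2 * ν)) * (6 * c - L) = 0 := by linear_combination a1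
    have h2 := (mul_eq_zero.1 h1).resolve_left (mul_ne_zero h.h3 (mul_ne_zero (mul_ne_zero h.h2 h.h2) hν0))
    linear_combination h2
  have b2 : (3 * (3 * 2)) * c = 0 := by linear_combination b0 - b1
  have b3 := (mul_eq_zero.1 b2).resolve_left (mul_ne_zero h.h3 (mul_ne_zero h.h3 h.h2))
  rw [b3, mul_zero] at b1
  exact h.L0 b1.symm

/-- `X`, `Z` are not scalars -/
theorem X_not_sc (hI : Irr X Z N) : ¬ IsSc X := by
  intro hX
  have hX' := hX
  obtain ⟨x, hx⟩ := hX
  have hx0 : x ≠ 0 := by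
    rintro rfl
    exact h.X_ne (by rw [hx, zero_smul])
  have hZ : IsSc Z := by
    have h1 := h.XZ
    rw [hx, smul_mul_assoc, mul_smul_comm, one_mul, mul_one, ← two_smul F, smul_smul, smul_smul] at h1
    refine ⟨(3 * 2 * x)⁻¹, ?_⟩
    have h0 : 3 * 2 * x ≠ 0 := mul_ne_zero (mul_ne_zero h.h3 h.h2) hx0
    apply smul_cancel h0
    rw [h1, smul_smul, mul_inv_cancel₀ h0, one_smul]
  exact h.N_not_sc hI (hI.comm N (hX'.comm N).symm (hZ.comm N).symm rfl)

theorem Z_not_sc (hI : Irr X Z N) : ¬ IsSc Z := by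
  intro hZ
  have hZ' := hZ
  obtain ⟨x, hx⟩ := hZ
  have hx0 : x ≠ 0 := by
    rintro rfl
    have := h.XZ
    rw [hx, zero_smul, zero_mul, mul_zero, add_zero, smul_zero] at this
    exact zero_ne_one this
  have hX : IsSc X := by
    have h1 := h.XZ
    rw [hx, smul_mul_assoc, mul_smul_comm, one_mul, mul_one, ← two_smul F, smul_smul, smul_smul] at h1
    refine ⟨(3 * 2 * x)⁻¹, ?_⟩
    have h0 : 3 * 2 * x ≠ 0 := mul_ne_zero (mul_ne_zero h.h3 h.h2) hx0
    apply smul_cancel h0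
    rw [h1, smul_smul, mul_inv_cancel₀ h0, one_smul]
  exact h.X_not_sc hI hX

/-- `X²` is a scalar -/
theorem XX_sc (hI : Irr X Z N) : IsSc (X * X) := by
  by_contra hC
  -- `X` and `Z` commute
  have hXZ : X * Z = Z * X := by
    have h1 := ch2 X
    have htr : X.trace ≠ 0 := by
      intro h0
      apply hC
      rw [h0, zero_smul, zero_sub, ← neg_smul] at h1
      exact ⟨_, h1⟩
    have h2 : X.trace • X = Z * Z + X.det • 1 := by rw [← h.XX, h1]; abel
    have h3 : X.trace • (X * Z) = X.trace • (Z * X) := by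
      rw [← smul_mul_assoc, ← mul_smul_comm, h2, add_mul, mul_add, mul_assoc, smul_mul_assoc, mul_smul_comm, one_mul,
        mul_one]
    exact smul_cancel htr h3
  obtain ⟨A, hA⟩ : ∃ A, A = X + Z := ⟨_, rfl⟩
  obtain ⟨B, hB⟩ : ∃ B, B = X - Z := ⟨_, rfl⟩
  have hAB : A * B = 0 := by
    have : A * B = (X * X - Z * Z) - (X * Z - Z * X) := by rw [hA, hB]; noncomm_ring
    rw [this, h.XX, hXZ, sub_self, sub_self, sub_self]
  have hBA : B * A = 0 := by
    have : B * A = (X * X - Z * Z) + (X * Z - Z * X) := by rw [hA, hB]; noncomm_ring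
    rw [this, h.XX, hXZ, sub_self, sub_self, add_zero]
  have hAABB : (3 : F) • (A * A) - (3 : F) • (B * B) = (2 : F) • 1 := by
    have : (3 : F) • (A * A) - (3 : F) • (B * B) = (2 : F) • ((3 : F) • (X * Z + Z * X)) := by
      have h1 : A * A - B * B = (X * Z + Z * X) + (X * Z + Z * X) := by rw [hA, hB]; noncomm_ring
      rw [← smul_sub, h1]
      module
    rw [this, h.XZ]
  have hA3 : (3 : F) • (A * A * A) = (2 : F) • A := by
    have h1 : ((3 : F) • (A * A) - (3 : F) • (B * B)) * A = (2 : F) • A := by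
      rw [hAABB, smul_mul_assoc, one_mul]
    rw [← h1, sub_mul, smul_mul_assoc, smul_mul_assoc, mul_assoc B, hBA, mul_zero, smul_zero, sub_zero]
  have hB3 : (3 : F) • (B * B * B) = -((2 : F) • B) := by
    have h1 : ((3 : F) • (A * A) - (3 : F) • (B * B)) * B = (2 : F) • B := by
      rw [hAABB, smul_mul_assoc, one_mul]
    rw [← h1, sub_mul, smul_mul_assoc, smul_mul_assoc, mul_assoc A, hAB, mul_zero, smul_zero, zero_sub, neg_neg]
  -- `p₀`, `q₀`
  have hp0 : p₀ = -(A * N * A + B * N * B) := by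
    have h1 : A * N * A + B * N * B = (X * N * X + X * N * X) + (Z * N * Z + Z * N * Z) := by
      rw [hA, hB]; noncomm_ring
    rw [h.hp0, h1, hXZ, sub_self]
    module
  have hq0 : (4 : F) • q₀ = A * A + B * B + (2 : F) • (A * N * B - B * N * A) := by
    have h1 : A * A + B * B = (X * X + X * X) + (Z * Z + Z * Z) := by rw [hA, hB]; noncomm_ring
    have h2 : A * N * B - B * N * A = (Z * N * X + Z * N * X) - (X * N * Z + X * N * Z) := by rw [hA, hB]; noncomm_ring
    rw [h.hq0, h1, h2, ← h.XX]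
    module
  have hAq : (12 : F) • (A * q₀) = (2 : F) • A + (6 : F) • (A * A * N * B) := by
    have h1 : (12 : F) • (A * q₀) = (3 : F) • (A * ((4 : F) • q₀)) := by rw [mul_smul_comm, smul_smul]; norm_num
    have h2 : A * (A * A + B * B + (2 : F) • (A * N * B - B * N * A)) =
        A * A * A + (A * B) * B + (2 : F) • (A * A * N * B - (A * B) * N * A) := by
      rw [mul_add, mul_add, mul_smul_comm, mul_sub]
      simp only [mul_assoc]
    rw [h1, hq0, h2, hAB, zero_mul, zero_mul, zero_mul, add_zero, sub_zero, smul_add, hA3]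
    module
  have hqB : (12 : F) • (q₀ * B) = -((2 : F) • B) + (6 : F) • (A * N * B * B) := by
    have h1 : (12 : F) • (q₀ * B) = (3 : F) • (((4 : F) • q₀) * B) := by rw [smul_mul_assoc, smul_smul]; norm_num
    have h2 : (A * A + B * B + (2 : F) • (A * N * B - B * N * A)) * B =
        A * (A * B) + B * B * B + (2 : F) • (A * N * B * B - B * N * (A * B)) := by
      rw [add_mul, add_mul, smul_mul_assoc, sub_mul]
      simp only [mul_assoc]
    rw [h1, hq0, h2, hAB, mul_zero, mul_zero, zero_add, sub_zero, smul_add, hB3]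
    module
  have hBq : (12 : F) • (B * q₀) = -((2 : F) • B) - (6 : F) • (B * B * N * A) := by
    have h1 : (12 : F) • (B * q₀) = (3 : F) • (B * ((4 : F) • q₀)) := by rw [mul_smul_comm, smul_smul]; norm_num
    have h2 : B * (A * A + B * B + (2 : F) • (A * N * B - B * N * A)) =
        (B * A) * A + B * B * B + (2 : F) • ((B * A) * N * B - B * B * N * A) := by
      rw [mul_add, mul_add, mul_smul_comm, mul_sub]
      simp only [mul_assoc]
    rw [h1, hq0, h2, hBA, zero_mul, zero_mul, zero_mul, zero_add, zero_sub, smul_add, hB3]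
    module
  have hqA : (12 : F) • (q₀ * A) = (2 : F) • A - (6 : F) • (B * N * A * A) := by
    have h1 : (12 : F) • (q₀ * A) = (3 : F) • (((4 : F) • q₀) * A) := by rw [smul_mul_assoc, smul_smul]; norm_num
    have h2 : (A * A + B * B + (2 : F) • (A * N * B - B * N * A)) * A =
        A * A * A + B * (B * A) + (2 : F) • (A * N * (B * A) - B * N * A * A) := by
      rw [add_mul, add_mul, smul_mul_assoc, sub_mul]
      simp only [mul_assoc]
    rw [h1, hq0, h2, hBA, mul_zero, mul_zero, add_zero, zero_sub, smul_add, hA3]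
    module
  have hApB : A * (p₀ * p₀) * B = 0 := by
    rw [hp0]
    have : A * (-(A * N * A + B * N * B) * -(A * N * A + B * N * B)) * B =
      A * A * N * A * A * N * (A * B) + A * A * N * (A * B) * N * B * B + (A * B) * N * (B * A) * N * (A * B) +
        (A * B) * N * B * B * N * B * B := by noncomm_ring
    rw [this, hAB, hBA]
    simp
  have hBpA : B * (p₀ * p₀) * A = 0 := by
    rw [hp0]
    have : B * (-(A * N * A + B * N * B) * -(A * N * A + B * N * B)) * A =
      (B * A) * N * A * A * N * A * A + (B * A) * N * (A * B) * N * (B * A) + B * B * N * (B * A) * N * A * A +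
        B * B * N * B * B * N * (B * A) := by noncomm_ring
    rw [this, hAB, hBA]
    simp
  have hAqqB : A * (q₀ * q₀) * B = 0 := by
    have h1 : (12 * 12 : F) • (A * (q₀ * q₀) * B) = ((12 : F) • (A * q₀)) * ((12 : F) • (q₀ * B)) := by
      rw [smul_mul_smul_comm]
      congr 1
      noncomm_ring
    have h2 : ((2 : F) • A + (6 : F) • (A * A * N * B)) * (-((2 : F) • B) + (6 : F) • (A * N * B * B)) =
        (-4 : F) • (A * B) + (12 : F) • (A * A * N * B * B) - (12 : F) • (A * A * N * B * B) +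
          (36 : F) • (A * A * N * (B * A) * N * B * B) := by
      simp only [add_mul, mul_add, smul_mul_assoc, mul_smul_comm, mul_neg, ← mul_assoc]
      module
    rw [hAq, hqB, h2, hAB, hBA] at h1
    have h3 : (12 * 12 : F) • (A * (q₀ * q₀) * B) = (12 * 12 : F) • (0 : R2) := by rw [h1]; simp
    refine smul_cancel ?_ h3
    have h12 : (12 : F) ≠ 0 := by
      rw [show (12 : F) = 2 * 6 by norm_num]
      exact mul_ne_zero h.h2 h.h6
    exact mul_ne_zero h12 h12
  have hBqqA : B * (q₀ * q₀) * A = 0 := by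
    have h1 : (12 * 12 : F) • (B * (q₀ * q₀) * A) = ((12 : F) • (B * q₀)) * ((12 : F) • (q₀ * A)) := by
      rw [smul_mul_smul_comm]
      congr 1
      noncomm_ring
    have h2 : (-((2 : F) • B) - (6 : F) • (B * B * N * A)) * ((2 : F) • A - (6 : F) • (B * N * A * A)) =
        (-4 : F) • (B * A) + (12 : F) • (B * B * N * A * A) - (12 : F) • (B * B * N * A * A) +
          (36 : F) • (B * B * N * (A * B) * N * A * A) := by
      simp only [sub_mul, mul_sub, smul_mul_assoc, mul_smul_comm, neg_mul, ← mul_assoc]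
      module
    rw [hBq, hqA, h2, hAB, hBA] at h1
    have h3 : (12 * 12 : F) • (B * (q₀ * q₀) * A) = (12 * 12 : F) • (0 : R2) := by rw [h1]; simp
    refine smul_cancel ?_ h3
    have h12 : (12 : F) ≠ 0 := by
      rw [show (12 : F) = 2 * 6 by norm_num]
      exact mul_ne_zero h.h2 h.h6
    exact mul_ne_zero h12 h12
  have h12L : (2 * L : F) ≠ 0 := mul_ne_zero h.h2 h.L0
  have k1 : A * q₀ * B = 0 := by
    have h1 := congrArg (fun Y => A * Y * B) h.e00
    simp only [mul_sub, sub_mul, mul_smul_comm, smul_mul_assoc, mul_neg, neg_mul] at h1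
    rw [hApB, hAqqB, smul_zero, smul_zero, sub_zero] at h1
    exact (smul_eq_zero.1 (neg_eq_zero.1 h1.symm)).resolve_left h12L
  have k2 : B * q₀ * A = 0 := by
    have h1 := congrArg (fun Y => B * Y * A) h.e00
    simp only [mul_sub, sub_mul, mul_smul_comm, smul_mul_assoc, mul_neg, neg_mul] at h1
    rw [hBpA, hBqqA, smul_zero, smul_zero, sub_zero] at h1
    exact (smul_eq_zero.1 (neg_eq_zero.1 h1.symm)).resolve_left h12L
  have k3 : A * A * N * B * B = 0 := by
    have h1 : (12 : F) • (A * q₀ * B) = (2 : F) • (A * B) + (6 : F) • (A * A * N * B * B) := by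
      rw [← smul_mul_assoc, hAq, add_mul, smul_mul_assoc, smul_mul_assoc]
    rw [k1, hAB, smul_zero, smul_zero, zero_add] at h1
    exact (smul_eq_zero.1 h1.symm).resolve_left h.h6
  have k4 : B * B * N * A * A = 0 := by
    have h1 : (12 : F) • (B * q₀ * A) = -((2 : F) • (B * A)) - (6 : F) • (B * B * N * A * A) := by
      rw [← smul_mul_assoc, hBq, sub_mul, neg_mul, smul_mul_assoc, smul_mul_assoc]
    rw [k2, hBA, smul_zero, smul_zero, neg_zero, zero_sub] at h1
    exact (smul_eq_zero.1 (neg_eq_zero.1 h1.symm)).resolve_left h.h6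
  -- `A²` commutes with `N`
  have k5 : (A * A) * N = N * (A * A) := by
    have h1 : (2 : F) • ((A * A) * N) = (3 : F) • (A * A * N * A * A) := by
      have : (2 : F) • ((A * A) * N) = (A * A) * N * ((2 : F) • 1) := by rw [mul_smul_comm, mul_one]
      rw [this, ← hAABB, mul_sub, mul_smul_comm, mul_smul_comm, ← mul_assoc, ← mul_assoc, k3, smul_zero, sub_zero]
    have h2 : (2 : F) • (N * (A * A)) = (3 : F) • (A * A * N * A * A) := by
      have : (2 : F) • (N * (A * A)) = ((2 : F) • 1) * (N * (A * A)) := by rw [smul_mul_assoc, one_mul]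
      rw [this, ← hAABB, sub_mul, smul_mul_assoc, smul_mul_assoc]
      have e1 : B * B * (N * (A * A)) = B * B * N * A * A := by simp only [mul_assoc]
      have e2 : A * A * (N * (A * A)) = A * A * N * A * A := by simp only [mul_assoc]
      rw [e1, e2, k4, smul_zero, sub_zero]
    exact smul_cancel h.h2 (h1.trans h2.symm)
  have hAX : A * X = X * A := by rw [hA, add_mul, mul_add, hXZ]
  have hAZ : A * Z = Z * A := by rw [hA, add_mul, mul_add, hXZ]
  obtain ⟨c, hc⟩ := hI.comm (A * A) (by rw [mul_assoc, hAX, ← mul_assoc, hAX, mul_assoc])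
    (by rw [mul_assoc, hAZ, ← mul_assoc, hAZ, mul_assoc]) k5
  apply hC
  have h1 : (6 : F) • (X * X) = (3 * c - 1) • 1 := by
    have e1 : A * A = (X * X + Z * Z) + (X * Z + Z * X) := by rw [hA]; noncomm_ring
    have e2 : (3 : F) • (A * A) = (6 : F) • (X * X) + 1 := by
      rw [e1, ← h.XX, smul_add, h.XZ]
      module
    rw [hc] at e2
    have : (3 * c - 1) • (1 : R2) = (3 : F) • c • 1 - 1 := by module
    rw [this, e2, add_sub_cancel_right]
  refine ⟨6⁻¹ * (3 * c - 1), ?_⟩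
  apply smul_cancel h.h6
  rw [h1, smul_smul, ← mul_assoc, mul_inv_cancel₀ h.h6, one_mul]

theorem c_of (hI : Irr X Z N) : ∃ c τ : F, X * X = c • 1 ∧ Z * Z = c • 1 ∧ Z * N * X - X * N * Z = τ • 1 ∧
    (Z * X - X * Z) * N + N * (Z * X - X * Z) = -((2 * τ) • 1) ∧ q₀ = (c + τ) • 1 ∧ X.trace = 0 ∧ Z.trace = 0 ∧
    N.trace = 0 ∧ 24 * (c + τ) ^ 2 = 1 + 2 * L * (c + τ) := by
  obtain ⟨c, hc⟩ := h.XX_sc hI
  have hc' : Z * Z = c • 1 := by rw [← h.XX, hc]
  have tX := tr_mul_self_zero (h.X_not_sc hI) hc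
  have tZ := tr_mul_self_zero (h.Z_not_sc hI) hc'
  have tN : N.trace = 0 := by
    refine tr_mul_self_zero (h.N_not_sc hI) (c := 2⁻¹) ?_
    apply smul_cancel h.h2
    rw [h.NN, smul_smul, mul_inv_cancel₀ h.h2, one_smul]
  have eX : X 1 1 = -X 0 0 := by rw [Matrix.trace_fin_two] at tX; exact eq_neg_of_add_eq_zero_right tX
  have eZ : Z 1 1 = -Z 0 0 := by rw [Matrix.trace_fin_two] at tZ; exact eq_neg_of_add_eq_zero_right tZ
  have eN : N 1 1 = -N 0 0 := by rw [Matrix.trace_fin_two] at tN; exact eq_neg_of_add_eq_zero_right tN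
  have h1 : Z * N * X - X * N * Z = (Z * N * X).trace • 1 := by
    rw [Matrix.trace_fin_two]
    ext i j
    fin_cases i <;> fin_cases j <;> simp [Matrix.mul_apply, Fin.sum_univ_two, eX, eZ, eN] <;> ring
  have h2 : (Z * X - X * Z) * N + N * (Z * X - X * Z) = -((2 * (Z * N * X).trace) • 1) := by
    rw [Matrix.trace_fin_two]
    ext i j
    fin_cases i <;> fin_cases j <;> simp [Matrix.mul_apply, Fin.sum_univ_two, eX, eZ, eN] <;> ring
  have h3 : q₀ = (c + (Z * N * X).trace) • 1 := by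
    rw [h.hq0, add_sub_assoc, h1, hc, add_smul]
  refine ⟨c, _, hc, hc', h1, h2, h3, tX, tZ, tN, ?_⟩
  have h4 := congrArg₂ (fun a b => a - b) h.s0 h.e00
  have h5 : (24 : F) • (q₀ * q₀) = 1 + (2 * L) • q₀ := by
    have : (24 : F) • (q₀ * q₀) = ((3 : F) • (p₀ * p₀) + (12 : F) • (q₀ * q₀)) -
      ((3 : F) • (p₀ * p₀) - (12 : F) • (q₀ * q₀)) := by module
    rw [this, h.s0, h.e00, sub_neg_eq_add]
  rw [h3] at h5
  apply smul_one_eq
  have h6 : (24 * (c + (Z * N * X).trace) ^ 2) • (1 : R2) =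
      (24 : F) • ((c + (Z * N * X).trace) • (1 : R2) * (c + (Z * N * X).trace) • (1 : R2)) := by
    rw [smul_mul_smul_comm, one_mul, smul_smul, sq]
  rw [h6, h5]
  module

/-- the first case -/
theorem case_one {c τ : F} (h5 : (5 : F) ≠ 0) (hc : X * X = c • 1) (hc' : Z * Z = c • 1)
    (hτ : Z * N * X - X * N * Z = τ • 1) (hq : q₀ = (c + τ) • 1) (tN : N.trace = 0) (h4 : 4 * (c + τ) = L) : False := by
  have hNN : ∀ Y : R2, (2 : F) • (Y * N * N) = Y := fun Y => by
    rw [mul_assoc, ← mul_smul_comm, h.NN, mul_one]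
  have hNN' : ∀ Y : R2, (2 : F) • (N * (N * Y)) = Y := fun Y => by
    rw [← mul_assoc, ← smul_mul_assoc, h.NN, one_mul]
  have k0 : (12 : F) • (p₀ * p₀) = 1 := by
    have h1 : (12 : F) • (p₀ * p₀) = (2 : F) • (((3 : F) • (p₀ * p₀) + (12 : F) • (q₀ * q₀)) +
      ((3 : F) • (p₀ * p₀) - (12 : F) • (q₀ * q₀))) := by module
    rw [h1, h.s0, h.e00, hq]
    have h2 : (2 : F) • ((1 : R2) + -((2 * L) • (c + τ) • 1)) = (2 - L * (4 * (c + τ))) • 1 := by module
    rw [h2, h4, ← sq, h.L2]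
    norm_num
  have k1 : q₁ = 0 := by
    have e1 : (9 : F) • (p₀ * p₀ * (N * q₁)) = (2 : F) • (N * q₁) := by
      calc (9 : F) • (p₀ * p₀ * (N * q₁)) = (3 : F) • (p₀ * ((3 : F) • (p₀ * N * q₁))) := by
            rw [mul_smul_comm, smul_smul, ← mul_assoc, ← mul_assoc, ← mul_assoc]; norm_num
        _ = (2 * L) • (((3 : F) • (p₀ * N * q₁)) * N) := by
            rw [h.e02, mul_smul_comm, smul_mul_assoc, ← mul_assoc, ← mul_assoc, smul_comm, ← smul_mul_assoc, h.e02,
              smul_mul_assoc]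
        _ = (2 * L ^ 2) • ((2 : F) • (N * q₁ * N * N)) := by
            rw [h.e02, smul_mul_assoc, smul_smul, smul_smul]
            congr 1
            ring
        _ = _ := by rw [hNN, h.L2, mul_one]
    have e2 : (36 : F) • (p₀ * p₀ * (N * q₁)) = (3 : F) • (N * q₁) := by
      have : (36 : F) • (p₀ * p₀ * (N * q₁)) = (3 : F) • (((12 : F) • (p₀ * p₀)) * (N * q₁)) := by
        rw [smul_mul_assoc, smul_smul]; norm_num
      rw [this, k0, one_mul]
    have e3 : (5 : F) • (N * q₁) = 0 := by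
      have : (5 : F) • (N * q₁) = (4 : F) • ((2 : F) • (N * q₁)) - (3 : F) • (N * q₁) := by module
      rw [this, ← e1, ← e2, smul_smul]
      norm_num
    have e4 := (smul_eq_zero.1 e3).resolve_left h5
    rw [← hNN' q₁, e4, mul_zero, smul_zero]
  have k2 : q₂ = 0 := by
    have e1 : (9 : F) • (q₂ * N * (p₀ * p₀)) = (2 : F) • (q₂ * N) := by
      calc (9 : F) • (q₂ * N * (p₀ * p₀)) = (3 : F) • (((3 : F) • (q₂ * N * p₀)) * p₀) := by
            rw [smul_mul_assoc, smul_smul, ← mul_assoc]; norm_num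
        _ = (2 * L) • (N * ((3 : F) • (q₂ * N * p₀))) := by
            rw [h.e20, mul_smul_comm, smul_mul_assoc, smul_comm, mul_assoc N q₂ N, mul_assoc N, ← mul_smul_comm, h.e20,
              mul_smul_comm, mul_assoc N q₂ N]
        _ = (2 * L ^ 2) • ((2 : F) • (N * (N * (q₂ * N)))) := by
            rw [h.e20, mul_smul_comm, smul_smul, smul_smul, mul_assoc N q₂ N]
            congr 1
            ring
        _ = _ := by rw [hNN', h.L2, mul_one]
    have e2 : (36 : F) • (q₂ * N * (p₀ * p₀)) = (3 : F) • (q₂ * N) := by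
      have : (36 : F) • (q₂ * N * (p₀ * p₀)) = (3 : F) • ((q₂ * N) * ((12 : F) • (p₀ * p₀))) := by
        rw [mul_smul_comm, smul_smul]; norm_num
      rw [this, k0, mul_one]
    have e3 : (5 : F) • (q₂ * N) = 0 := by
      have : (5 : F) • (q₂ * N) = (4 : F) • ((2 : F) • (q₂ * N)) - (3 : F) • (q₂ * N) := by module
      rw [this, ← e1, ← e2, smul_smul]
      norm_num
    have e4 := (smul_eq_zero.1 e3).resolve_left h5
    rw [← hNN q₂, e4, zero_mul, smul_zero]
  have hω := h.hω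
  have j1 : (2 * c - τ) • (1 : R2) = 0 := by
    have e1 : q₁ + q₂ = (2 : F) • (X * X) + (ω ^ 2 + ω + 1) • (Z * N * X - X * N * Z) - (Z * N * X - X * N * Z) := by
      rw [h.hq1, h.hq2]; module
    rw [hω, zero_smul, hτ, hc, k1, k2] at e1
    have : (2 * c - τ) • (1 : R2) = (2 : F) • c • (1 : R2) + 0 - τ • (1 : R2) := by module
    rw [this, ← e1, add_zero]
  have j2 := smul_one_eq_zero j1
  have hθ := theta_ne' hω h.h3
  have j3 : Z * N * X + X * N * Z = 0 := by
    have e1 : q₁ - q₂ = (ω - ω ^ 2) • (Z * N * X + X * N * Z) := by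
      rw [h.hq1, h.hq2]; module
    rw [k1, k2, sub_zero] at e1
    exact (smul_eq_zero.1 e1.symm).resolve_left hθ
  have j4 : Z * N * X = c • 1 := by
    apply smul_cancel h.h2
    have : (2 : F) • (Z * N * X) = (Z * N * X - X * N * Z) + (Z * N * X + X * N * Z) := by module
    rw [this, hτ, j3, add_zero, smul_smul, sub_eq_zero.1 j2]
  have j5 : (c ^ 2) • N = c • (Z * X) := by
    have e1 : Z * (Z * N * X) * X = (Z * Z) * N * (X * X) := by noncomm_ring
    rw [j4, hc, hc', mul_smul_comm, mul_one, smul_mul_assoc, smul_mul_assoc, one_mul, mul_smul_comm, mul_one, smul_smul,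
      ← sq] at e1
    exact e1.symm
  have j6 : c * (Z * X).trace = 0 := by
    have := congrArg Matrix.trace j5
    rw [Matrix.trace_smul, Matrix.trace_smul, tN, smul_zero, smul_eq_mul] at this
    exact this.symm
  have j7 : 3 * (2 * (Z * X).trace) = 2 := by
    have := congrArg Matrix.trace h.XZ
    rw [Matrix.trace_smul, Matrix.trace_add, Matrix.trace_mul_comm X Z, Matrix.trace_one, Fintype.card_fin, smul_eq_mul,
      ← two_mul] at this
    exact_mod_cast this
  have j8 : 2 * c = 0 := by linear_combination (6 : F) * j6 - c * j7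
  have j9 := (mul_eq_zero.1 j8).resolve_left h.h2
  apply h.L0
  rw [← h4]
  linear_combination (12 : F) * j9 - 4 * j2

/-- the second case -/
theorem case_two (hI : Irr X Z N) {c τ : F} (h5 : (5 : F) ≠ 0) (hc : X * X = c • 1) (hc' : Z * Z = c • 1)
    (hτ' : (Z * X - X * Z) * N + N * (Z * X - X * Z) = -((2 * τ) • 1)) (hq : q₀ = (c + τ) • 1)
    (tN : N.trace = 0) (h4 : 6 * (c + τ) = -L) : False := by
  have hω := h.hω
  have hω3 : ω ^ 3 = 1 := by linear_combination (ω - 1) * hω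
  have hL2 := h.L2
  have hNN : ∀ Y : R2, (2 : F) • (Y * N * N) = Y := fun Y => by
    rw [mul_assoc, ← mul_smul_comm, h.NN, mul_one]
  have hNN' : ∀ Y : R2, (2 : F) • (N * (N * Y)) = Y := fun Y => by
    rw [← mul_assoc, ← smul_mul_assoc, h.NN, one_mul]
  have hNq : N * q₀ * N = (c + τ) • (N * N) := by
    rw [hq, mul_smul_comm, smul_mul_assoc, mul_one]
  have e11' : (3 : F) • (p₁ * p₁) - (12 : F) • (q₁ * q₂) = (4 * L * (c + τ)) • 1 := by
    rw [h.e11, hNq, ← h.NN, smul_smul, smul_smul]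
    congr 1
    ring
  have k1 : (18 : F) • (p₁ * p₁) = 1 := by
    have h1 : (18 : F) • (p₁ * p₁) = (3 : F) • (((3 : F) • (p₁ * p₁) + (12 : F) • (q₁ * q₂)) +
      ((3 : F) • (p₁ * p₁) - (12 : F) • (q₁ * q₂))) := by module
    rw [h1, h.s1, e11']
    have h2 : (3 : F) • ((1 : R2) + (4 * L * (c + τ)) • 1) = (3 + 2 * L * (6 * (c + τ))) • 1 := by module
    rw [h2, h4]
    have : 3 + 2 * L * -L = 1 := by linear_combination (-2 : F) * hL2
    rw [this, one_smul]
  have k12 : (72 : F) • (q₁ * q₂) = (5 : F) • 1 := by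
    have h1 : (72 : F) • (q₁ * q₂) = (3 : F) • (((3 : F) • (p₁ * p₁) + (12 : F) • (q₁ * q₂)) -
      ((3 : F) • (p₁ * p₁) - (12 : F) • (q₁ * q₂))) := by module
    rw [h1, h.s1, e11']
    have h2 : (3 : F) • ((1 : R2) - (4 * L * (c + τ)) • 1) = (3 - 2 * L * (6 * (c + τ))) • 1 := by module
    rw [h2, h4]
    congr 1
    linear_combination (2 : F) * hL2
  have k21 : (72 : F) • (q₂ * q₁) = (5 : F) • 1 := by
    have h1 : ((5 : F)⁻¹ • ((72 : F) • q₁)) * q₂ = 1 := by
      rw [smul_mul_assoc, smul_mul_assoc, k12, smul_smul, inv_mul_cancel₀ h5, one_smul]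
    have h2 := mul_eq_one_comm.1 h1
    rw [mul_smul_comm, mul_smul_comm] at h2
    have h3 := congrArg (fun Y => (5 : F) • Y) h2
    simp only [smul_smul, ← mul_assoc] at h3
    rw [mul_inv_cancel₀ h5, one_mul] at h3
    exact h3
  -- `p₂ = -(L/3) N`
  have k2 : (3 : F) • p₂ = -(L • N) := by
    have h1 : (6 : F) • (p₂ * N) = -(L • 1) := by
      apply smul_cancel h5
      have e1 : (5 : F) • (6 : F) • (p₂ * N) = (72 : F) • (((6 : F) • (p₂ * N * q₂)) * q₁) := by
        have : ((6 : F) • (p₂ * N * q₂)) * q₁ = (6 : F) • (p₂ * N * (q₂ * q₁)) := by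
          rw [smul_mul_assoc, mul_assoc]
        rw [this, smul_comm (72 : F), ← mul_smul_comm (72 : F), k21, mul_smul_comm, mul_one, smul_comm]
      have e2 : (72 : F) • ((-(L • q₂)) * q₁) = (5 : F) • -(L • (1 : R2)) := by
        rw [neg_mul, smul_mul_assoc, smul_neg, smul_comm, k21, smul_neg, smul_comm]
      rw [e1, h.e21, e2]
    have h2 : (3 : F) • p₂ = ((6 : F) • (p₂ * N)) * N := by
      nth_rewrite 1 [← hNN p₂]
      rw [smul_smul, smul_mul_assoc]
      norm_num
    rw [h2, h1, neg_mul, smul_mul_assoc, one_mul]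
  -- `p₀`
  have trXNX : (X * N * X).trace = 0 := by
    rw [Matrix.trace_mul_cycle, hc, smul_mul_assoc, one_mul, Matrix.trace_smul, tN, smul_zero]
  have trZNZ : (Z * N * Z).trace = 0 := by
    rw [Matrix.trace_mul_cycle, hc', smul_mul_assoc, one_mul, Matrix.trace_smul, tN, smul_zero]
  have tp1 : p₁.trace = 0 := by
    rw [h.hp1, Matrix.trace_sub, Matrix.trace_sub, Matrix.trace_sub, Matrix.trace_smul, Matrix.trace_smul, trXNX, trZNZ,
      Matrix.trace_mul_comm, sub_self, smul_zero, smul_zero, sub_zero, sub_zero]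
  obtain ⟨κ, hκ⟩ : ∃ κ : F, p₁ * N + N * p₁ = κ • 1 := ⟨_, anti tp1 tN⟩
  have k3 : p₀ * N = -((2 : F) • (N * p₁)) := by
    have h1 := h.e01
    rw [hq, smul_mul_assoc, smul_mul_assoc, one_mul, smul_smul, h4] at h1
    apply smul_cancel h.L0
    have : L • (p₀ * N) = L • (p₀ * N + N * p₁) - L • (N * p₁) := by module
    rw [this, ← h1]
    module
  have k4 : p₀ = (2 : F) • p₁ - (4 * κ) • N := by
    have h1 : p₀ = (2 : F) • ((p₀ * N) * N) := (hNN p₀).symm
    have h2 : p₁ * N = κ • 1 - N * p₁ := eq_sub_of_add_eq hκ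
    rw [h1, k3, neg_mul, smul_mul_assoc, mul_assoc, h2, mul_sub, mul_smul_comm, mul_one]
    have h3 : (2 : F) • -((2 : F) • (κ • N - N * (N * p₁))) =
      (2 : F) • ((2 : F) • (N * (N * p₁))) - (4 * κ) • N := by module
    rw [h3, hNN']
  -- the products
  obtain ⟨G, hG⟩ : ∃ G, G = Z * X - X * Z := ⟨_, rfl⟩
  have g1 : (9 : F) • G = (9 : F) • p₁ - (12 * κ + L) • N := by
    have e1 : (3 : F) • G = p₀ + p₁ + p₂ + (2 * (ω ^ 2 + ω + 1)) • (X * N * X) + (2 * (ω ^ 2 + ω + 1)) • (Z * N * Z) := by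
      rw [hG, h.hp0, h.hp1, h.hp2]; module
    rw [hω, mul_zero, zero_smul, zero_smul, add_zero, add_zero] at e1
    have e2 : (9 : F) • G = (3 : F) • p₀ + (3 : F) • p₁ + (3 : F) • p₂ := by
      have : (9 : F) • G = (3 : F) • ((3 : F) • G) := by rw [smul_smul]; norm_num
      rw [this, e1, smul_add, smul_add]
    rw [e2, k4, k2]
    module
  have g2 : (18 : F) • (X * N * X) = -((6 + 3 * ω) • p₁ - (12 * κ + ω ^ 2 * L) • N) := by
    have e1 : p₀ + ω • p₁ + ω ^ 2 • p₂ = (ω ^ 2 + ω + 1) • (Z * X - X * Z) -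
        (2 * (1 + ω ^ 3 + ω ^ 3)) • (X * N * X) - (2 * (1 + ω ^ 2 + ω ^ 3 * ω)) • (Z * N * Z) := by
      rw [h.hp0, h.hp1, h.hp2]; module
    rw [hω, hω3, zero_smul, zero_sub] at e1
    have e3 : 2 * (1 + ω ^ 2 + 1 * ω) = 0 := by linear_combination (2 : F) * hω
    rw [e3, zero_smul, sub_zero] at e1
    have e2 : (18 : F) • (X * N * X) = -((3 : F) • p₀ + (3 * ω) • p₁ + ω ^ 2 • ((3 : F) • p₂)) := by
      have : (18 : F) • (X * N * X) = -((3 : F) • -((2 * (1 + 1 + 1) : F) • (X * N * X))) := by module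
      rw [this, ← e1]
      module
    rw [e2, k4, k2]
    module
  have g3 : (18 : F) • (Z * N * Z) = -((6 + 3 * ω ^ 2) • p₁ - (12 * κ + ω * L) • N) := by
    have e1 : p₀ + ω ^ 2 • p₁ + ω • p₂ = (ω ^ 2 + ω + 1) • (Z * X - X * Z) -
        (2 * (1 + ω ^ 3 * ω + ω ^ 2)) • (X * N * X) - (2 * (1 + ω ^ 3 + ω ^ 3)) • (Z * N * Z) := by
      rw [h.hp0, h.hp1, h.hp2]; module
    rw [hω, hω3, zero_smul, zero_sub] at e1
    have e3 : 2 * (1 + 1 * ω + ω ^ 2) = 0 := by linear_combination (2 : F) * hω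
    rw [e3, zero_smul, neg_zero, zero_sub] at e1
    have e2 : (18 : F) • (Z * N * Z) = -((3 : F) • p₀ + (3 * ω ^ 2) • p₁ + ω • ((3 : F) • p₂)) := by
      have : (18 : F) • (Z * N * Z) = -((3 : F) • -((2 * (1 + 1 + 1) : F) • (Z * N * Z))) := by module
      rw [this, ← e1]
      module
    rw [e2, k4, k2]
    module
  have sqf : ∀ a b : F, (18 : F) • ((a • p₁ - b • N) * (a • p₁ - b • N)) = (a ^ 2 + 9 * b ^ 2 - 18 * a * b * κ) • 1 := by
    intro a b
    have e1 : (a • p₁ - b • N) * (a • p₁ - b • N) = a ^ 2 • (p₁ * p₁) + b ^ 2 • (N * N) - (a * b) • (p₁ * N + N * p₁) := by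
      simp only [sub_mul, mul_sub, smul_mul_assoc, mul_smul_comm]
      module
    have e2 : (18 : F) • (a ^ 2 • (p₁ * p₁) + b ^ 2 • (N * N) - (a * b) • (p₁ * N + N * p₁)) =
      a ^ 2 • ((18 : F) • (p₁ * p₁)) + (9 * b ^ 2) • ((2 : F) • (N * N)) - (18 * a * b) • (p₁ * N + N * p₁) := by module
    rw [e1, e2, k1, h.NN, hκ]
    module
  have sqX : (2 : F) • ((X * N * X) * (X * N * X)) = c ^ 2 • 1 := by
    have e1 : (X * N * X) * (X * N * X) = X * (N * (X * X) * N) * X := by noncomm_ring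
    rw [e1, hc, mul_smul_comm, mul_one, smul_mul_assoc, mul_smul_comm, smul_mul_assoc]
    have e2 : (2 : F) • c • (X * (N * N) * X) = c • (X * ((2 : F) • (N * N)) * X) := by
      rw [mul_smul_comm, smul_mul_assoc, smul_comm]
    rw [e2, h.NN, mul_one, hc, smul_smul, sq]
  have sqZ : (2 : F) • ((Z * N * Z) * (Z * N * Z)) = c ^ 2 • 1 := by
    have e1 : (Z * N * Z) * (Z * N * Z) = Z * (N * (Z * Z) * N) * Z := by noncomm_ring
    rw [e1, hc', mul_smul_comm, mul_one, smul_mul_assoc, mul_smul_comm, smul_mul_assoc]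
    have e2 : (2 : F) • c • (Z * (N * N) * Z) = c • (Z * ((2 : F) • (N * N)) * Z) := by
      rw [mul_smul_comm, smul_mul_assoc, smul_comm]
    rw [e2, h.NN, mul_one, hc', smul_smul, sq]
  -- the scalar equations
  have f0 : 18 * τ = 3 * κ + L := by
    have e1 : (9 : F) • (G * N + N * G) = (9 : F) • (p₁ * N + N * p₁) - (12 * κ + L) • ((2 : F) • (N * N)) := by
      have : (9 : F) • (G * N + N * G) = ((9 : F) • G) * N + N * ((9 : F) • G) := by
        rw [smul_mul_assoc, mul_smul_comm, smul_add]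
      rw [this, g1]
      simp only [sub_mul, mul_sub, smul_mul_assoc, mul_smul_comm]
      module
    rw [hκ, h.NN, hG, hτ'] at e1
    have e2 : -(18 * τ) = 9 * κ - (12 * κ + L) := by
      apply smul_one_eq
      have : (-(18 * τ)) • (1 : R2) = (9 : F) • -((2 * τ) • 1) := by module
      rw [this, e1]
      module
    linear_combination -e2
  have f1 : 18 * c = -(4 * L + 3 * κ) := by linear_combination (3 : F) * h4 - f0
  have h9 : (9 : F) ≠ 0 := by
    rw [show (9 : F) = 3 * 3 by norm_num]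
    exact mul_ne_zero h.h3 h.h3
  have f2 : (2 + ω) ^ 2 + (12 * κ + ω ^ 2 * L) ^ 2 - 6 * (2 + ω) * (12 * κ + ω ^ 2 * L) * κ - (4 * L + 3 * κ) ^ 2 = 0 := by
    have e1 : (18 : F) • (((18 : F) • (X * N * X)) * ((18 : F) • (X * N * X))) = (9 * (18 * c) ^ 2) • 1 := by
      rw [smul_mul_smul_comm, smul_smul]
      have : (18 * (18 * 18) : F) • (X * N * X * (X * N * X)) = (9 * 18 * 18 : F) • ((2 : F) • (X * N * X * (X * N * X))) := by
        rw [smul_smul]; norm_num
      rw [this, sqX, smul_smul]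
      congr 1
      ring
    rw [g2, neg_mul_neg, sqf] at e1
    have e2 := smul_one_eq e1
    have e3 : (9 : F) * ((2 + ω) ^ 2 + (12 * κ + ω ^ 2 * L) ^ 2 - 6 * (2 + ω) * (12 * κ + ω ^ 2 * L) * κ -
        (4 * L + 3 * κ) ^ 2) = 0 := by
      linear_combination e2 + 9 * (18 * c - (4 * L + 3 * κ)) * f1
    exact (mul_eq_zero.1 e3).resolve_left h9
  have f3 : (2 + ω ^ 2) ^ 2 + (12 * κ + ω * L) ^ 2 - 6 * (2 + ω ^ 2) * (12 * κ + ω * L) * κ - (4 * L + 3 * κ) ^ 2 = 0 := by
    have e1 : (18 : F) • (((18 : F) • (Z * N * Z)) * ((18 : F) • (Z * N * Z))) = (9 * (18 * c) ^ 2) • 1 := by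
      rw [smul_mul_smul_comm, smul_smul]
      have : (18 * (18 * 18) : F) • (Z * N * Z * (Z * N * Z)) = (9 * 18 * 18 : F) • ((2 : F) • (Z * N * Z * (Z * N * Z))) := by
        rw [smul_smul]; norm_num
      rw [this, sqZ, smul_smul]
      congr 1
      ring
    rw [g3, neg_mul_neg, sqf] at e1
    have e2 := smul_one_eq e1
    have e3 : (9 : F) * ((2 + ω ^ 2) ^ 2 + (12 * κ + ω * L) ^ 2 - 6 * (2 + ω ^ 2) * (12 * κ + ω * L) * κ -
        (4 * L + 3 * κ) ^ 2) = 0 := by
      linear_combination e2 + 9 * (18 * c - (4 * L + 3 * κ)) * f1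
    exact (mul_eq_zero.1 e3).resolve_left h9
  have hθ := theta_ne' hω h.h3
  have f4 : 3 * κ + L = 0 := by
    have e1 : (4 * (ω - ω ^ 2)) * ((3 * κ + L) * (6 * κ - L)) = 0 := by
      linear_combination f3 - f2 - (4 * ω - 3 * ω ^ 2 - ω ^ 4) * hL2
    have e2 := (mul_eq_zero.1 e1).resolve_left (mul_ne_zero (by
      rw [show (4 : F) = 2 * 2 by norm_num]
      exact mul_ne_zero h.h2 h.h2) hθ)
    have e3 : (6 : F) * ((3 * κ + L) * (3 * κ - 5 * L)) = 0 := by
      linear_combination f3 + f2 + (-ω ^ 2 * L ^ 2 - ω ^ 2 + ω * L ^ 2 + 12 * ω * L * κ + ω - L ^ 2 - 24 * L * κ +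
        72 * κ ^ 2 - 5) * hω + 3 * hL2
    have e4 := (mul_eq_zero.1 e3).resolve_left h.h6
    have e5 : (9 * L) * (3 * κ + L) = 0 := by linear_combination e2 - 2 * e4
    exact (mul_eq_zero.1 e5).resolve_left (mul_ne_zero h9 h.L0)
  have f5 : 6 * c = -L := by
    have : (3 : F) * (6 * c + L) = 0 := by linear_combination f1 - f4
    have := (mul_eq_zero.1 this).resolve_left h.h3
    linear_combination this
  have f6 : 2 * τ = 0 := by
    have : (9 : F) * (2 * τ) = 0 := by linear_combination f0 + f4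
    exact (mul_eq_zero.1 this).resolve_left h9
  have hGG : G * G = 0 := by
    have e1 := h.GG hc
    rw [← hG] at e1
    have e2 : 1 - 36 * c ^ 2 = 0 := by linear_combination -hL2 + (L - 6 * c) * f5
    rw [e2, zero_smul] at e1
    exact (smul_eq_zero.1 e1).resolve_left h9
  have hGX := h.GX hc
  have hGZ := h.GZ hc
  rw [← hG] at hGX hGZ
  have hGN : G * N = -(N * G) := by
    rw [← hG, f6, zero_smul, neg_zero] at hτ'
    exact eq_neg_of_add_eq_zero_left hτ'
  by_cases hG0 : G = 0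
  · have hXZ : X * Z = Z * X := by rw [hG0] at hG; exact (sub_eq_zero.1 hG.symm).symm
    have e1 : (6 : F) • (X * Z) = 1 := by
      rw [← h.XZ, hXZ]; module
    have e2 : Z = -(L • X) := by
      have e3 : X = -(L • Z) := by
        calc X = X * ((6 : F) • (X * Z)) := by rw [e1, mul_one]
          _ = (6 : F) • ((X * X) * Z) := by rw [mul_smul_comm, mul_assoc]
          _ = (6 * c) • Z := by rw [hc, smul_mul_assoc, one_mul, smul_smul]
          _ = _ := by rw [f5, neg_smul]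
      have e4 : -(L • X) = (L ^ 2) • Z := by
        nth_rewrite 1 [e3]
        module
      rw [e4, hL2, one_smul]
    have e3 : Z * N * Z = X * N * X := by
      have : Z * N * Z = (L ^ 2) • (X * N * X) := by
        rw [e2]
        simp only [neg_mul, mul_neg, smul_mul_assoc, mul_smul_comm]
        module
      rw [this, hL2, one_smul]
    have e4 : p₂ = (2 : F) • (X * N * X) := by
      have : p₂ = G - (2 * (ω ^ 2 + ω + 1) - 2) • (X * N * X) := by rw [hG, h.hp2, e3]; module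
      rw [this, hG0, hω]
      module
    have e5 : (6 : F) • (X * N * X) = -(L • N) := by
      rw [← k2, e4, smul_smul]; norm_num
    have e6 : L • (N * X) = L • (X * N) := by
      have e7 : X * ((6 : F) • (X * N * X)) = (6 * c) • (N * X) := by
        have : X * (X * N * X) = (X * X) * (N * X) := by noncomm_ring
        rw [mul_smul_comm, this, hc, smul_mul_assoc, one_mul, smul_smul]
      rw [e5, f5, mul_neg, mul_smul_comm, neg_smul] at e7
      exact (neg_injective e7).symm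
    have e7 := smul_cancel h.L0 e6
    exact h.X_not_sc hI (hI.comm X rfl hXZ e7.symm)
  · have hdet : G.det = 0 := by
      have := congrArg Matrix.det hGG
      rw [Matrix.det_mul, Matrix.det_zero] at this
      exact mul_self_eq_zero.1 this
    obtain ⟨v, hv, hGv⟩ := Matrix.exists_mulVec_eq_zero_iff.2 hdet
    have key : ∀ Y : R2, G * Y = -(Y * G) → ∃ a : F, Y *ᵥ v = a • v := by
      intro Y hY
      have e1 : G *ᵥ (Y *ᵥ v) = 0 := by
        rw [Matrix.mulVec_mulVec, hY, Matrix.neg_mulVec, ← Matrix.mulVec_mulVec, hGv, Matrix.mulVec_zero, neg_zero]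
      exact ker_line hG0 hv hGv e1
    exact hI.irr v hv (key X hGX) (key Z hGZ) (key N hGN)

/-- **characteristic different from five is impossible** -/
theorem false_of (hI : Irr X Z N) (h5 : (5 : F) ≠ 0) : False := by
  obtain ⟨c, τ, hc, hc', hτ, hτ', hq, -, -, tN, h24⟩ := h.c_of hI
  have h1 : (4 * (c + τ) - L) * (6 * (c + τ) + L) = 0 := by
    linear_combination h24 - h.L2
  rcases mul_eq_zero.1 h1 with h2 | h2
  · exact h.case_one h5 hc hc' hτ hq tN (sub_eq_zero.1 h2)
  · exact h.case_two hI h5 hc hc' hτ' hq tN (eq_neg_of_add_eq_zero_left h2)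

end Eqs

end two

end Cfsg.Agent.H825.A7x
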