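import Cfsg.Agent.H825.A7x.Mat2

/-!
# `6.A₇` in dimension twelve: from `3 × 3` blocks to the three matrices (helper825)
-/

set_option autoImplicit false
set_option linter.unusedSectionVars false

namespace Cfsg.Agent.H825.A7x

open Matrix Cfsg.Agent.H890.A7

section gen

variable {F : Type*} [Field F] {R : Type*} [Ring R] [Algebra F R] {ω : F}

/-- circulant -/
def ci (y₀ y₁ y₂ : R) : Matrix (Fin 3) (Fin 3) R := !![y₀, y₂, y₁; y₁, y₀, y₂; y₂, y₁, y₀]

theorem ci_entries (y₀ y₁ y₂ : R) : ci y₀ y₁ y₂ 0 0 = y₀ ∧ ci y₀ y₁ y₂ 0 1 = y₂ ∧ ci y₀ y₁ y₂ 0 2 = y₁ ∧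
    ci y₀ y₁ y₂ 1 0 = y₁ ∧ ci y₀ y₁ y₂ 1 1 = y₀ ∧ ci y₀ y₁ y₂ 1 2 = y₂ ∧ ci y₀ y₁ y₂ 2 0 = y₂ ∧ ci y₀ y₁ y₂ 2 1 = y₁ ∧
    ci y₀ y₁ y₂ 2 2 = y₀ := ⟨rfl, rfl, rfl, rfl, rfl, rfl, rfl, rfl, rfl⟩

theorem K_eq3 (hω : ω ^ 2 + ω + 1 = 0) (x d₀ d₁ d₂ t : R) :
    gm ω x * dg d₀ d₁ d₂ * (gm ω x * rm t) = ci (x * (d₀ + d₁ + d₂) * (x * t))
      (x * (d₀ + ω ^ 2 • d₁ + ω • d₂) * (x * t)) (x * (d₀ + ω • d₁ + ω ^ 2 • d₂) * (x * t)) := by
  obtain ⟨a00, a01, a02, a10, a11, a12, a20, a21, a22⟩ := gm_entries hω x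
  obtain ⟨r00, r01, r02, r10, r11, r12, r20, r21, r22⟩ := rm_entries t
  obtain ⟨k00, k01, k02, k10, k11, k12, k20, k21, k22⟩ := dg_entries d₀ d₁ d₂
  obtain ⟨p00, p01, p02, p10, p11, p12, p20, p21, p22⟩ := ci_entries (x * (d₀ + d₁ + d₂) * (x * t))
      (x * (d₀ + ω ^ 2 • d₁ + ω • d₂) * (x * t)) (x * (d₀ + ω • d₁ + ω ^ 2 • d₂) * (x * t))
  have e1 : ω ^ 2 * ω ^ 2 = ω := by linear_combination (ω ^ 2 - ω) * hω
  have e2 : ω * ω ^ 2 = 1 := by linear_combination (ω - 1) * hω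
  have e3 : ω ^ 2 * ω = 1 := by linear_combination (ω - 1) * hω
  have e4 : ω * ω = ω ^ 2 := by ring
  apply ext3 <;> simp only [mul3, p00, p01, p02, p10, p11, p12, p20, p21, p22] <;>
    simp only [a00, a01, a02, a10, a11, a12, a20, a21, a22, r00, r01, r02, r10, r11, r12, r20, r21, r22,
      k00, k01, k02, k10, k11, k12, k20, k21, k22, mul_zero, add_zero, zero_add, mul_add, add_mul,
      smul_mul_assoc, mul_smul_comm, smul_smul, e1, e2, e3, e4, one_smul, mul_assoc]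

/-- the relation of order six -/
theorem r6_neg {k g : R} {L : F} (kk : k * k = -1) (hss : (g * g) * (g * g) = -1)
    (r6 : (k * (g * k * (g * (g * g)))) ^ 3 = L • (g * g)) :
    k * (g * k * (g * (g * g))) * k = -(L • ((g * g) * ((g * k * (g * (g * g))) * k * (g * k * (g * (g * g)))))) := by
  have hKK : (g * k * (g * (g * g))) * (g * k * (g * (g * g))) = -1 := by
    calc _ = g * k * ((g * g) * (g * g)) * k * (g * (g * g)) := by noncomm_ring
      _ = -(g * (k * k) * (g * (g * g))) := by rw [hss]; noncomm_ring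
      _ = (g * g) * (g * g) := by rw [kk]; noncomm_ring
      _ = -1 := hss
  generalize g * k * (g * (g * g)) = K at *
  have h1 : (K * k * K) * (K * k * K) = -1 := by
    calc _ = K * k * (K * K) * k * K := by noncomm_ring
      _ = -(K * (k * k) * K) := by rw [hKK]; noncomm_ring
      _ = K * K := by rw [kk]; noncomm_ring
      _ = -1 := hKK
  calc k * K * k = -(k * K * k * ((K * k * K) * (K * k * K))) := by rw [h1, mul_neg, neg_neg, mul_one]
    _ = -((k * K) ^ 3 * (K * k * K)) := by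
      rw [pow_succ, pow_two]; noncomm_ring
    _ = _ := by rw [r6, smul_mul_assoc]

/-- products with `diag(x, x, x)` -/
theorem dg_ci (x y₀ y₁ y₂ : R) : dg x x x * ci y₀ y₁ y₂ = ci (x * y₀) (x * y₁) (x * y₂) := by
  obtain ⟨k00, k01, k02, k10, k11, k12, k20, k21, k22⟩ := dg_entries x x x
  obtain ⟨p00, p01, p02, p10, p11, p12, p20, p21, p22⟩ := ci_entries y₀ y₁ y₂
  obtain ⟨r00, r01, r02, r10, r11, r12, r20, r21, r22⟩ := ci_entries (x * y₀) (x * y₁) (x * y₂)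
  apply ext3 <;> simp only [mul3, p00, p01, p02, p10, p11, p12, p20, p21, p22, r00, r01, r02, r10, r11, r12, r20, r21,
    r22, k00, k01, k02, k10, k11, k12, k20, k21, k22, zero_mul, add_zero, zero_add]

theorem ci_dg (x y₀ y₁ y₂ : R) : ci y₀ y₁ y₂ * dg x x x = ci (y₀ * x) (y₁ * x) (y₂ * x) := by
  obtain ⟨k00, k01, k02, k10, k11, k12, k20, k21, k22⟩ := dg_entries x x x
  obtain ⟨p00, p01, p02, p10, p11, p12, p20, p21, p22⟩ := ci_entries y₀ y₁ y₂
  obtain ⟨r00, r01, r02, r10, r11, r12, r20, r21, r22⟩ := ci_entries (y₀ * x) (y₁ * x) (y₂ * x)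
  apply ext3 <;> simp only [mul3, p00, p01, p02, p10, p11, p12, p20, p21, p22, r00, r01, r02, r10, r11, r12, r20, r21,
    r22, k00, k01, k02, k10, k11, k12, k20, k21, k22, mul_zero, add_zero, zero_add]

theorem dg_mul' (x y z x' y' z' : R) : dg x y z * dg x' y' z' = dg (x * x') (y * y') (z * z') := by
  obtain ⟨X00, X01, X02, X10, X11, X12, X20, X21, X22⟩ := dg_entries x y z
  obtain ⟨Y00, Y01, Y02, Y10, Y11, Y12, Y20, Y21, Y22⟩ := dg_entries x' y' z'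
  obtain ⟨Z00, Z01, Z02, Z10, Z11, Z12, Z20, Z21, Z22⟩ := dg_entries (x * x') (y * y') (z * z')
  apply ext3 <;> simp only [mul3, X00, X01, X02, X10, X11, X12, X20, X21, X22, Y00, Y01, Y02, Y10, Y11, Y12, Y20, Y21,
    Y22, Z00, Z01, Z02, Z10, Z11, Z12, Z20, Z21, Z22, mul_zero, zero_mul, add_zero, zero_add]

theorem dg_rm (x y : R) : dg x x x * rm y = rm (x * y) := by
  obtain ⟨k00, k01, k02, k10, k11, k12, k20, k21, k22⟩ := dg_entries x x x
  obtain ⟨p00, p01, p02, p10, p11, p12, p20, p21, p22⟩ := rm_entries y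
  obtain ⟨r00, r01, r02, r10, r11, r12, r20, r21, r22⟩ := rm_entries (x * y)
  apply ext3 <;> simp only [mul3, p00, p01, p02, p10, p11, p12, p20, p21, p22, r00, r01, r02, r10, r11, r12, r20, r21,
    r22, k00, k01, k02, k10, k11, k12, k20, k21, k22, mul_zero, zero_mul, add_zero, zero_add]

theorem rm_dg (x y : R) : rm y * dg x x x = rm (y * x) := by
  obtain ⟨k00, k01, k02, k10, k11, k12, k20, k21, k22⟩ := dg_entries x x x
  obtain ⟨p00, p01, p02, p10, p11, p12, p20, p21, p22⟩ := rm_entries y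
  obtain ⟨r00, r01, r02, r10, r11, r12, r20, r21, r22⟩ := rm_entries (y * x)
  apply ext3 <;> simp only [mul3, p00, p01, p02, p10, p11, p12, p20, p21, p22, r00, r01, r02, r10, r11, r12, r20, r21,
    r22, k00, k01, k02, k10, k11, k12, k20, k21, k22, mul_zero, zero_mul, add_zero, zero_add]

theorem smul_dg (c : F) (x y z : R) : c • dg x y z = dg (c • x) (c • y) (c • z) := by
  obtain ⟨k00, k01, k02, k10, k11, k12, k20, k21, k22⟩ := dg_entries x y z
  obtain ⟨r00, r01, r02, r10, r11, r12, r20, r21, r22⟩ := dg_entries (c • x) (c • y) (c • z)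
  apply ext3 <;> simp only [Matrix.smul_apply, r00, r01, r02, r10, r11, r12, r20, r21,
    r22, k00, k01, k02, k10, k11, k12, k20, k21, k22, smul_zero]

theorem smul_ci (c : F) (x y z : R) : c • ci x y z = ci (c • x) (c • y) (c • z) := by
  obtain ⟨k00, k01, k02, k10, k11, k12, k20, k21, k22⟩ := ci_entries x y z
  obtain ⟨r00, r01, r02, r10, r11, r12, r20, r21, r22⟩ := ci_entries (c • x) (c • y) (c • z)
  apply ext3 <;> simp only [Matrix.smul_apply, r00, r01, r02, r10, r11, r12, r20, r21,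
    r22, k00, k01, k02, k10, k11, k12, k20, k21, k22]

theorem smul_rm (c : F) (x : R) : c • rm x = rm (c • x) := by
  obtain ⟨k00, k01, k02, k10, k11, k12, k20, k21, k22⟩ := rm_entries x
  obtain ⟨r00, r01, r02, r10, r11, r12, r20, r21, r22⟩ := rm_entries (c • x)
  apply ext3 <;> simp only [Matrix.smul_apply, r00, r01, r02, r10, r11, r12, r20, r21,
    r22, k00, k01, k02, k10, k11, k12, k20, k21, k22, smul_zero]

/-- the relation in the form `3 E C E = L R t C E C` -/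
theorem rel_E (hω : ω ^ 2 + ω + 1 = 0) {L s : F} {x t d₀ d₁ d₂ f₀ f₁ f₂ E₀ E₁ E₂ : R}
    (ht : t = (3 : F) • (x * x)) (tt : t * t = -1) (h00 : d₀ * d₀ = -1) (h11 : d₁ * d₁ = -1) (h22 : d₂ * d₂ = -1)
    (r6 : (dg d₀ d₁ d₂ * (gm ω x * dg d₀ d₁ d₂ * (gm ω x * (gm ω x * gm ω x)))) ^ 3 = L • (gm ω x * gm ω x))
    (hf0 : s • (d₀ + d₁ + d₂) = (3 : F) • f₀) (hf1 : s • (d₀ + ω • d₁ + ω ^ 2 • d₂) = (3 : F) • f₁)
    (hf2 : s • (d₀ + ω ^ 2 • d₁ + ω • d₂) = (3 : F) • f₂)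
    (hE0 : E₀ = -(x * t * (s • d₀) * x)) (hE1 : E₁ = -(x * t * (s • d₁) * x)) (hE2 : E₂ = -(x * t * (s • d₂) * x)) :
    (3 : F) • (dg E₀ E₁ E₂ * ci f₀ f₂ f₁ * dg E₀ E₁ E₂) =
      L • (rm t * (ci f₀ f₂ f₁ * dg E₀ E₁ E₂ * ci f₀ f₂ f₁)) := by
  have hxt : x * t = t * x := by rw [ht, mul_smul_comm, smul_mul_assoc, mul_assoc]
  have hs : gm ω x * gm ω x = rm t := by rw [gm_mul_gm hω, ht]
  have hrr : rm t * rm t = (-1 : Matrix (Fin 3) (Fin 3) R) := by
    obtain ⟨r00, r01, r02, r10, r11, r12, r20, r21, r22⟩ := rm_entries t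
    apply ext3 <;> simp only [mul3, r00, r01, r02, r10, r11, r12, r20, r21, r22, tt] <;> simp
  have hkk : dg d₀ d₁ d₂ * dg d₀ d₁ d₂ = (-1 : Matrix (Fin 3) (Fin 3) R) := by
    obtain ⟨k00, k01, k02, k10, k11, k12, k20, k21, k22⟩ := dg_entries d₀ d₁ d₂
    apply ext3 <;> simp only [mul3, k00, k01, k02, k10, k11, k12, k20, k21, k22, h00, h11, h22] <;> simp
  have h1 := r6_neg hkk (by rw [hs, hrr]) r6
  rw [hs, K_eq3 hω] at h1
  obtain ⟨k, hk⟩ : ∃ k, k = s • dg d₀ d₁ d₂ := ⟨_, rfl⟩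
  obtain ⟨C, hC⟩ : ∃ C, C = ci f₀ f₂ f₁ := ⟨_, rfl⟩
  obtain ⟨K, hK⟩ : ∃ K, K = ci (x * (d₀ + d₁ + d₂) * (x * t)) (x * (d₀ + ω ^ 2 • d₁ + ω • d₂) * (x * t))
    (x * (d₀ + ω • d₁ + ω ^ 2 • d₂) * (x * t)) := ⟨_, rfl⟩
  have hsK : s • K = (3 : F) • (dg x x x * C * (dg x x x * dg t t t)) := by
    rw [hK, hC, dg_mul', dg_ci, ci_dg, smul_ci, smul_ci]
    have e : ∀ y f : R, s • y = (3 : F) • f → s • (x * y * (x * t)) = (3 : F) • (x * f * (x * t)) := by
      intro y f hy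
      rw [← smul_mul_assoc, ← mul_smul_comm, hy, mul_smul_comm, smul_mul_assoc]
    rw [e _ _ hf0, e _ _ hf2, e _ _ hf1]
  have hE : dg E₀ E₁ E₂ = -(dg x x x * dg t t t * k * dg x x x) := by
    rw [hk, smul_dg, dg_mul', dg_mul', dg_mul', hE0, hE1, hE2]
    obtain ⟨k00, k01, k02, k10, k11, k12, k20, k21, k22⟩ := dg_entries (-(x * t * (s • d₀) * x))
      (-(x * t * (s • d₁) * x)) (-(x * t * (s • d₂) * x))
    obtain ⟨l00, l01, l02, l10, l11, l12, l20, l21, l22⟩ := dg_entries (x * t * (s • d₀) * x)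
      (x * t * (s • d₁) * x) (x * t * (s • d₂) * x)
    apply ext3 <;> simp only [Matrix.neg_apply, l00, l01, l02, l10, l11, l12, l20, l21, l22,
      k00, k01, k02, k10, k11, k12, k20, k21, k22, neg_zero]
  have h2 : k * (s • K) * k = -(L • (rm t * ((s • K) * k * (s • K)))) := by
    rw [← hK] at h1
    have e1 : k * (s • K) * k = (s * s * s) • (dg d₀ d₁ d₂ * K * dg d₀ d₁ d₂) := by
      rw [hk]
      simp only [smul_mul_assoc, mul_smul_comm, smul_smul]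
      rw [mul_assoc s s s]
    have e2 : -(L • (rm t * ((s • K) * k * (s • K)))) =
        (s * s * s) • -(L • (rm t * (K * dg d₀ d₁ d₂ * K))) := by
      rw [hk]
      simp only [smul_mul_assoc, mul_smul_comm, smul_neg, smul_smul]
      congr 2
      ring
    rw [e1, e2, h1]
  obtain ⟨X, hX⟩ : ∃ X, X = dg x x x := ⟨_, rfl⟩
  obtain ⟨T, hT⟩ : ∃ T, T = dg t t t := ⟨_, rfl⟩
  rw [← hX, ← hT] at hsK hE
  rw [← hC, hE]
  rw [hsK] at h2
  have c1 : (3 : F) • (X * T * X) = -1 := by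
    rw [hX, hT, dg_mul', dg_mul', smul_dg]
    have : (3 : F) • (x * t * x) = -1 := by
      rw [mul_assoc, ← hxt, ← mul_assoc, ← smul_mul_assoc, ← ht, tt]
    rw [this]
    apply ext3 <;> simp [dg]
  have c2 : (3 : F) • (X * T * rm t * X) = -(rm t) := by
    rw [hX, hT, dg_mul', dg_rm, rm_dg, smul_rm]
    have : (3 : F) • (x * t * t * x) = -t := by
      rw [mul_assoc x t t, tt, mul_neg, mul_one, neg_mul, smul_neg, ← ht]
    rw [this]
    obtain ⟨l00, l01, l02, l10, l11, l12, l20, l21, l22⟩ := rm_entries (-t)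
    obtain ⟨k00, k01, k02, k10, k11, k12, k20, k21, k22⟩ := rm_entries t
    apply ext3 <;> simp only [Matrix.neg_apply, l00, l01, l02, l10, l11, l12, l20, l21, l22,
      k00, k01, k02, k10, k11, k12, k20, k21, k22, neg_zero]
  -- multiply by `X T` and `X`
  have h4 : (3 : F) • (-(X * T * k * X) * C * -(X * T * k * X)) =
      (X * T) * (k * ((3 : F) • (X * C * (X * T))) * k) * X := by
    simp only [mul_smul_comm, smul_mul_assoc]
    congr 1
    noncomm_ring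
  rw [h4, h2]
  have h5 : (X * T) * -(L • (rm t * (((3 : F) • (X * C * (X * T))) * k * ((3 : F) • (X * C * (X * T)))))) * X =
      L • (((3 : F) • (X * T * rm t * X)) * (C * -(X * T * k * X) * C) * ((3 : F) • (X * T * X))) := by
    simp only [mul_smul_comm, smul_mul_assoc, mul_neg, neg_mul, smul_neg]
    congr 1
    congr 1
    congr 1
    congr 1
    noncomm_ring
  rw [h5, c1, c2]
  congr 1
  noncomm_ring

/-! ### the second block decomposition -/

/-- `s d_m` -/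
def SD (u v : F) : Matrix (Fin 2) (Fin 2) R := !![1, u • 1; (2 * v) • 1, -1]

section blk

variable {x t d₀ d₁ d₂ : Matrix (Fin 2) (Fin 2) R} {s : F}

/-- the hypotheses on the blocks -/
structure Blk (ω s : F) (x t d₀ d₁ d₂ : Matrix (Fin 2) (Fin 2) R) : Prop where
  hω : ω ^ 2 + ω + 1 = 0
  h2 : (2 : F) ≠ 0
  h3 : (3 : F) ≠ 0
  hs : s = ω - ω ^ 2
  ht : t = (3 : F) • (x * x)
  tt : t * t = -1
  t0 : t * d₀ = -(d₀ * t)
  t2 : t * d₂ = -(d₁ * t)
  t1 : t * d₁ = -(d₂ * t)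
  h00 : d₀ * d₀ = -1
  h11 : d₁ * d₁ = -1
  h22 : d₂ * d₂ = -1
  e0 : s • d₀ = SD (1 : F) 1
  e1 : s • d₁ = SD ω (ω ^ 2)
  e2 : s • d₂ = SD (ω ^ 2) ω

theorem ss_eq (hω : ω ^ 2 + ω + 1 = 0) (hs : s = ω - ω ^ 2) : s * s = -3 := by
  rw [hs]; linear_combination (ω ^ 2 - 3 * ω + 3) * hω

theorem ext2 {A B : Matrix (Fin 2) (Fin 2) R} (h00 : A 0 0 = B 0 0) (h01 : A 0 1 = B 0 1) (h10 : A 1 0 = B 1 0)
    (h11 : A 1 1 = B 1 1) : A = B := by
  ext i j
  fin_cases i <;> fin_cases j <;> assumption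

theorem mul2 (A B : Matrix (Fin 2) (Fin 2) R) (i j : Fin 2) : (A * B) i j = A i 0 * B 0 j + A i 1 * B 1 j := by
  rw [Matrix.mul_apply, Fin.sum_univ_two]

theorem mk_entries (a b c d : R) : (!![a, b; c, d] : Matrix (Fin 2) (Fin 2) R) 0 0 = a ∧
    (!![a, b; c, d] : Matrix (Fin 2) (Fin 2) R) 0 1 = b ∧ (!![a, b; c, d] : Matrix (Fin 2) (Fin 2) R) 1 0 = c ∧
    (!![a, b; c, d] : Matrix (Fin 2) (Fin 2) R) 1 1 = d := ⟨rfl, rfl, rfl, rfl⟩

theorem mk_mul (a b c d a' b' c' d' : R) : (!![a, b; c, d] : Matrix (Fin 2) (Fin 2) R) * !![a', b'; c', d'] =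
    !![a * a' + b * c', a * b' + b * d'; c * a' + d * c', c * b' + d * d'] := by
  apply ext2 <;> simp only [mul2, mk_entries]

theorem mk_neg (a b c d : R) : -(!![a, b; c, d] : Matrix (Fin 2) (Fin 2) R) = !![-a, -b; -c, -d] := by
  apply ext2 <;> rfl

theorem mk_add (a b c d a' b' c' d' : R) : (!![a, b; c, d] : Matrix (Fin 2) (Fin 2) R) + !![a', b'; c', d'] =
    !![a + a', b + b'; c + c', d + d'] := by
  apply ext2 <;> rfl

theorem mk_smul (r : F) (a b c d : R) : r • (!![a, b; c, d] : Matrix (Fin 2) (Fin 2) R) =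
    !![r • a, r • b; r • c, r • d] := by
  apply ext2 <;> rfl

theorem mk_inj {a b c d a' b' c' d' : R} (h : (!![a, b; c, d] : Matrix (Fin 2) (Fin 2) R) = !![a', b'; c', d']) :
    a = a' ∧ b = b' ∧ c = c' ∧ d = d' :=
  ⟨congrFun (congrFun h 0) 0, congrFun (congrFun h 0) 1, congrFun (congrFun h 1) 0, congrFun (congrFun h 1) 1⟩

theorem eta2 (A : Matrix (Fin 2) (Fin 2) R) : A = !![A 0 0, A 0 1; A 1 0, A 1 1] := by
  apply ext2 <;> rfl

theorem comb (a b : F) : (SD (1 : F) 1 + a • SD ω (ω ^ 2) + b • SD (ω ^ 2) ω : Matrix (Fin 2) (Fin 2) R) =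
    !![(1 + a + b) • 1, (1 + a * ω + b * ω ^ 2) • 1; (2 * (1 + a * ω ^ 2 + b * ω)) • 1, -((1 + a + b) • 1)] := by
  unfold SD
  rw [mk_smul, mk_smul, mk_add, mk_add]
  apply ext2 <;> simp only [mk_entries] <;> module

namespace Blk

variable (h : Blk ω s x t d₀ d₁ d₂)
include h

theorem h6 : (6 : F) ≠ 0 := by
  rw [show (6 : F) = 2 * 3 by norm_num]; exact mul_ne_zero h.h2 h.h3

theorem c0 : s • (d₀ + d₁ + d₂) = (3 : F) • (!![1, 0; 0, -1] : Matrix (Fin 2) (Fin 2) R) := by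
  have e : s • (d₀ + d₁ + d₂) = s • d₀ + (1 : F) • (s • d₁) + (1 : F) • (s • d₂) := by module
  rw [e, h.e0, h.e1, h.e2, comb, mk_smul]
  have z : 1 + 1 * ω + 1 * ω ^ 2 = 0 := by linear_combination h.hω
  have z' : 1 + 1 * ω ^ 2 + 1 * ω = 0 := by linear_combination h.hω
  rw [z, z']
  apply ext2 <;> simp only [mk_entries] <;> module

theorem c1 : s • (d₀ + ω • d₁ + ω ^ 2 • d₂) = (3 : F) • (!![0, 0; (2 : F) • 1, 0] : Matrix (Fin 2) (Fin 2) R) := by
  have e : s • (d₀ + ω • d₁ + ω ^ 2 • d₂) = s • d₀ + ω • (s • d₁) + ω ^ 2 • (s • d₂) := by module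
  have hω := h.hω
  rw [e, h.e0, h.e1, h.e2, comb, mk_smul]
  have z : 1 + ω * ω + ω ^ 2 * ω ^ 2 = 0 := by linear_combination (ω ^ 2 - ω + 1) * hω
  have z' : 1 + ω + ω ^ 2 = 0 := by linear_combination hω
  have z'' : 2 * (1 + ω * ω ^ 2 + ω ^ 2 * ω) = 6 := by linear_combination (4 * (ω - 1)) * hω
  rw [z, z', z'']
  apply ext2 <;> simp only [mk_entries] <;> module

theorem c2 : s • (d₀ + ω ^ 2 • d₁ + ω • d₂) = (3 : F) • (!![0, 1; 0, 0] : Matrix (Fin 2) (Fin 2) R) := by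
  have e : s • (d₀ + ω ^ 2 • d₁ + ω • d₂) = s • d₀ + ω ^ 2 • (s • d₁) + ω • (s • d₂) := by module
  have hω := h.hω
  rw [e, h.e0, h.e1, h.e2, comb, mk_smul]
  have z : 1 + ω ^ 2 * ω + ω * ω ^ 2 = 3 := by linear_combination (2 * (ω - 1)) * hω
  have z' : 1 + ω ^ 2 + ω = 0 := by linear_combination hω
  have z'' : 2 * (1 + ω ^ 2 * ω ^ 2 + ω * ω) = 0 := by linear_combination (2 * (ω ^ 2 - ω + 1)) * hω
  rw [z, z', z'']
  apply ext2 <;> simp only [mk_entries] <;> module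

/-- the shape of `t` -/
theorem t_eq : ∃ N : R, t = !![0, N; -((2 : F) • N), 0] ∧ (2 : F) • (N * N) = 1 := by
  have k1 : t * (s • (d₀ + ω • d₁ + ω ^ 2 • d₂)) = -((s • (d₀ + ω ^ 2 • d₁ + ω • d₂)) * t) := by
    simp only [mul_add, add_mul, smul_add, mul_smul_comm, smul_mul_assoc, h.t0, h.t1, h.t2]
    module
  have k0 : t * (s • (d₀ + d₁ + d₂)) = -((s • (d₀ + d₁ + d₂)) * t) := by
    simp only [mul_add, add_mul, smul_add, mul_smul_comm, smul_mul_assoc, h.t0, h.t1, h.t2]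
    module
  obtain ⟨a, b, c, d, ht⟩ : ∃ a b c d, t = !![a, b; c, d] := ⟨_, _, _, _, eta2 t⟩
  have tt := h.tt
  rw [h.c1, h.c2, ht, mk_smul, mk_smul, mk_mul, mk_mul, mk_neg] at k1
  rw [h.c0, ht, mk_smul, mk_mul, mk_mul, mk_neg] at k0
  obtain ⟨k10, -, -, k13⟩ := mk_inj k1
  obtain ⟨k11, -, k12, -⟩ := mk_inj k1
  obtain ⟨k00, -, -, k03⟩ := mk_inj k0
  simp only [smul_zero, mul_zero, zero_mul, add_zero, zero_add, mul_smul_comm, smul_mul_assoc, mul_one, one_mul,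
    mul_neg, neg_mul, neg_neg, smul_neg, neg_zero] at k10 k11 k12 k13 k00 k03
  have ha : a = 0 := by
    have e : (6 : F) • a = 0 := by
      have : (6 : F) • a = (3 : F) • a + (3 : F) • a := by module
      rw [this]
      nth_rewrite 1 [k00]
      exact neg_add_cancel _
    exact (smul_eq_zero.1 e).resolve_left h.h6
  have hd : d = 0 := by
    have e : (6 : F) • d = 0 := by
      have : (6 : F) • d = (3 : F) • d + (3 : F) • d := by module
      rw [this]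
      nth_rewrite 2 [← k03]
      exact add_neg_cancel _
    exact (smul_eq_zero.1 e).resolve_left h.h6
  have hc : c = -((2 : F) • b) := by
    have e : (3 : F) • c = (3 : F) • -((2 : F) • b) := by
      have : (3 : F) • -((2 : F) • b) = -((3 : F) • (2 : F) • b) := by module
      rw [this, k10, neg_neg]
    exact smul_right_injective _ h.h3 e
  refine ⟨b, by rw [ht, ha, hd, hc], ?_⟩
  rw [ht, ha, hd, hc, mk_mul] at tt
  have e := congrFun (congrFun tt 0) 0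
  simp only [mk_entries, Matrix.neg_apply, Matrix.one_apply_eq, mul_zero, zero_add, mul_neg, mul_smul_comm] at e
  exact neg_injective e

end Blk

end blk

end gen

end Cfsg.Agent.H825.A7x
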